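import Groth.Agent.MaxTorus.Greatest

/-!
# Homomorphisms from split tori factor through the greatest split subtorus
-/

set_option autoImplicit false
set_option backward.isDefEq.respectTransparency false
set_option linter.style.haveILetI false

universe u

open CategoryTheory MonoidalCategory CartesianMonoidalCategory MonObj AlgebraicGeometry

noncomputable section

namespace Groth.Agent.SplitExt

open MaxTorus HomTriv DSMapLib QuotTorus

variable {S : Scheme.{u}}

/-- A homomorphism from a split torus into `G` factors through any greatest split subtorus. -/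
theorem exists_factor [ConnectedSpace S] {G T₀ : Over S} [GrpObj G] [GrpObj T₀] (hG : SGA3x.IsMultTypeFT G)
    (j₀ : T₀ ⟶ G)
    (hmax : ∀ (T' : Over S) [GrpObj T'] (j' : T' ⟶ G) [IsMonHom j'] [Mono j'] (r' : ℕ),
      Red.IsSplitTorusWith (Fin r' → ℤ) T' → ∃ g : T' ⟶ T₀, g ≫ j₀ = j')
    (r : ℕ) (w : Red.DS S (Fin r → ℤ) ⟶ G) [IsMonHom w] : ∃ g : Red.DS S (Fin r → ℤ) ⟶ T₀, g ≫ j₀ = w := by
  obtain ⟨N₀, g, hg, hgm, hw⟩ := exists_image hG w
  haveI := hg
  haveI := hgm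
  let NM : Submodule ℤ (Fin r → ℤ) := AddSubgroup.toIntSubmodule N₀
  let bs := Module.finBasis ℤ NM
  have hD : Red.IsSplitTorusWith (Fin (Module.finrank ℤ NM) → ℤ) (Red.DS S N₀) :=
    nonempty_DS_iso S ((show N₀ ≃+ NM from AddEquiv.refl _).trans bs.equivFun.toAddEquiv)
  obtain ⟨h, hh⟩ := hmax (Red.DS S N₀) g _ hD
  exact ⟨Red.DSmap S N₀.subtype ≫ h, by rw [Category.assoc, hh, hw]⟩

end Groth.Agent.SplitExt

namespace Groth.Agent.SplitExt

open MaxTorus HomTriv DSMapLib QuotTorus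

/-- A cocharacter factors through any greatest split subtorus. -/
theorem exists_factor_cochar {S : Scheme.{u}} [ConnectedSpace S] {G T₀ : Over S} [GrpObj G] [GrpObj T₀]
    (hG : SGA3x.IsMultTypeFT G) (j₀ : T₀ ⟶ G)
    (hmax : ∀ (T' : Over S) [GrpObj T'] (j' : T' ⟶ G) [IsMonHom j'] [Mono j'] (r' : ℕ),
      Red.IsSplitTorusWith (Fin r' → ℤ) T' → ∃ g : T' ⟶ T₀, g ≫ j₀ = j')
    (w : Red.DS S ℤ ⟶ G) [IsMonHom w] : ∃ g : Red.DS S ℤ ⟶ T₀, g ≫ j₀ = w := by
  obtain ⟨N₀, g, hg, hgm, hw⟩ := exists_image hG w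
  haveI := hg
  haveI := hgm
  let NM : Submodule ℤ ℤ := AddSubgroup.toIntSubmodule N₀
  let bs := Module.finBasis ℤ NM
  have hD : Red.IsSplitTorusWith (Fin (Module.finrank ℤ NM) → ℤ) (Red.DS S N₀) :=
    nonempty_DS_iso S ((show N₀ ≃+ NM from AddEquiv.refl _).trans bs.equivFun.toAddEquiv)
  obtain ⟨h, hh⟩ := hmax (Red.DS S N₀) g _ hD
  exact ⟨Red.DSmap S N₀.subtype ≫ h, by rw [Category.assoc, hh, hw]⟩

end Groth.Agent.SplitExt
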