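import Groth.Agent.NormalFibLib.Basic

/-!
# Connected normal locally Noetherian schemes are integral
-/

set_option autoImplicit false
set_option backward.isDefEq.respectTransparency false

universe u

open CategoryTheory AlgebraicGeometry TopologicalSpace

namespace Groth.Agent.SplitExt

theorem isIntegral_of_connected_normal (X : Scheme.{u}) [IsLocallyNoetherian X] [ConnectedSpace X]
    (hX : Pi1.IsNormalScheme X) : IsIntegral X := by
  haveI : IrreducibleSpace X := by
    have hd : (irreducibleComponents (X : Type u)).PairwiseDisjoint id :=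
      (Groth.Agent.FinCondEasy.pairwiseDisjoint_iff X).2 fun x => by
        haveI := (hX x).1
        rw [nilradical_eq_zero]
        exact Ideal.isPrime_bot
    obtain ⟨x⟩ := (inferInstance : Nonempty X)
    have ho : IsOpen (irreducibleComponent x) := by
      refine Groth.Agent.CompTopLib.isOpen_of_disjoint (fun A hA B hB hne => hd hA hB hne) (fun y => ?_)
        (irreducibleComponent_mem_irreducibleComponents x)
      obtain ⟨V, hV, hyV, -⟩ := exists_isAffineOpen_mem_and_subset (x := y) (U := ⊤) trivial
      haveI : IsNoetherianRing Γ(X, V) := IsLocallyNoetherian.component_noetherian ⟨V, hV⟩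
      haveI : IsAffine V.toScheme := hV
      haveI : IsNoetherianRing Γ(V.toScheme, ⊤) := isNoetherianRing_of_ringEquiv Γ(X, V) V.topIso.commRingCatIsoToRingEquiv.symm
      haveI : NoetherianSpace V.toScheme := noetherianSpace_of_isAffine
      refine ⟨V, V.2, hyV, Set.Finite.of_finite_image (f := fun Z : Set X => V.ι ⁻¹' Z)
        (Set.Finite.subset NoetherianSpace.finite_irreducibleComponents ?_) ?_⟩
      · rintro _ ⟨Z, ⟨hZ, hne⟩, rfl⟩
        exact preimage_mem_irreducibleComponents hZ V.ι.isOpenEmbedding (by
          obtain ⟨a, haZ, haV⟩ := hne; exact ⟨a, haZ, ⟨a, haV⟩, rfl⟩)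
      · rintro Z ⟨hZ, hne⟩ Z' ⟨hZ', -⟩ he
        obtain ⟨a, haZ, haV⟩ := hne
        by_contra hh
        exact Set.disjoint_left.1 (hd hZ hZ' hh) haZ ((Set.ext_iff.1 he ⟨a, haV⟩).1 haZ)
    have hu := IsClopen.eq_univ ⟨isClosed_irreducibleComponent, ho⟩ ⟨x, mem_irreducibleComponent⟩
    have hi := (isIrreducible_irreducibleComponent (x := x))
    rw [hu] at hi
    exact (irreducibleSpace_def _).2 hi
  haveI : ∀ x : X, _root_.IsReduced (X.presheaf.stalk x) := fun x => by
    haveI := (hX x).1
    infer_instance
  haveI := isReduced_of_isReduced_stalk X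
  exact isIntegral_of_irreducibleSpace_of_isReduced X

end Groth.Agent.SplitExt
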