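import Groth.Agent.SplitExt.Extend
import Groth.Agent.SplitExt.Integral
import Groth.Agent.SplitHom.SameRank

/-!
# The greatest split subtorus over a normal base
-/

set_option autoImplicit false
set_option backward.isDefEq.respectTransparency false
set_option backward.isDefEq.respectTransparency.types false
set_option linter.style.haveILetI false

universe u

open CategoryTheory CategoryTheory.Limits MonoidalCategory CartesianMonoidalCategory MonObj AlgebraicGeometry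

noncomputable section

namespace Groth.Agent.SplitExt

variable {S : Scheme.{u}}

/-- Iterated base change of a split torus. -/
abbrev dsIso {U : Scheme.{u}} (c : U ⟶ S) (M : Type) [AddCommGroup M] :
    Grp.mk (Red.bc c (Red.DS S M)) ≅ Grp.mk (Red.DS U M) :=
  HomDesc.bcGrpIso c _ (Limits.IsTerminal.hom_ext specULiftZIsTerminal _ _) (Red.diag (ULift.{u} ℤ) M)

variable [ConnectedSpace S] [IsLocallyNoetherian S]

theorem exists_factor_bc (hn : Pi1.IsNormalScheme S) {T T₀ : Over S} [GrpObj T] [GrpObj T₀] (hT : Red.IsTorus T)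
    (j₀ : T₀ ⟶ T)
    (hmax : ∀ (T' : Over S) [GrpObj T'] (j' : T' ⟶ T) [IsMonHom j'] [Mono j'] (r' : ℕ),
      Red.IsSplitTorusWith (Fin r' → ℤ) T' → ∃ g : T' ⟶ T₀, g ≫ j₀ = j')
    (U : S.Opens) {T' : Over U.toScheme} [GrpObj T'] (j' : T' ⟶ Red.bc U.ι T) [IsMonHom j'] (r' : ℕ)
    (hT' : Red.IsSplitTorusWith (Fin r' → ℤ) T') :
    ∃ g : T' ⟶ Red.bc U.ι T₀, g ≫ (Over.pullback U.ι).map j₀ = j' := by
  haveI := isIntegral_of_connected_normal S hn
  by_cases hU : Nonempty U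
  swap
  · haveI : IsEmpty U.toScheme := not_nonempty_iff.1 hU
    haveI : IsEmpty T'.left := ⟨fun t => isEmptyElim (T'.hom t)⟩
    exact ⟨Over.homMk (isInitialOfIsEmpty.to _) (isInitialOfIsEmpty.hom_ext _ _),
      Over.OverMorphism.ext (isInitialOfIsEmpty.hom_ext _ _)⟩
  obtain ⟨e⟩ := hT'
  haveI : IsMonHom e.inv.hom.hom := e.inv.hom.isMonHom_hom
  haveI : IsMonHom (dsIso U.ι (Fin r' → ℤ)).hom.hom.hom := (dsIso U.ι (Fin r' → ℤ)).hom.hom.isMonHom_hom
  obtain ⟨u, hu, hmap⟩ := exists_extend_split hn (SplitHom.isMultTypeFT_of_isTorus hT) U (Fin r' → ℤ)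
    ((dsIso U.ι (Fin r' → ℤ)).hom.hom.hom ≫ e.inv.hom.hom ≫ j')
  haveI := hu
  obtain ⟨g₀, hg₀⟩ := exists_factor (SplitHom.isMultTypeFT_of_isTorus hT) j₀ hmax r' u
  refine ⟨e.hom.hom.hom ≫ (dsIso U.ι (Fin r' → ℤ)).inv.hom.hom ≫ (Over.pullback U.ι).map g₀, ?_⟩
  rw [Category.assoc, Category.assoc, ← Functor.map_comp, hg₀, hmap,
    ← Category.assoc (dsIso U.ι _).inv.hom.hom,
    show (dsIso U.ι (Fin r' → ℤ)).inv.hom.hom ≫ (dsIso U.ι (Fin r' → ℤ)).hom.hom.hom = 𝟙 _ from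
      congrArg (fun f => f.hom.hom) (dsIso U.ι (Fin r' → ℤ)).inv_hom_id, Category.id_comp, ← Category.assoc,
    show e.hom.hom.hom ≫ e.inv.hom.hom = 𝟙 _ from congrArg (fun f => f.hom.hom) e.hom_inv_id, Category.id_comp]

theorem exists_factor_locSplit (hn : Pi1.IsNormalScheme S) {T T₀ T₁ : Over S} [GrpObj T] [GrpObj T₀] [GrpObj T₁]
    (hT : Red.IsTorus T) (j₀ : T₀ ⟶ T) [Mono j₀]
    (hmax : ∀ (T' : Over S) [GrpObj T'] (j' : T' ⟶ T) [IsMonHom j'] [Mono j'] (r' : ℕ),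
      Red.IsSplitTorusWith (Fin r' → ℤ) T' → ∃ g : T' ⟶ T₀, g ≫ j₀ = j')
    (j₁ : T₁ ⟶ T) [IsMonHom j₁]
    (hT₁ : ∀ s : ↥S, ∃ U : S.Opens, s ∈ U ∧ ∃ r : ℕ, Red.IsSplitTorusWith (Fin r → ℤ) (Red.bc U.ι T₁)) :
    ∃ g : T₁ ⟶ T₀, g ≫ j₀ = j₁ := by
  haveI : Mono j₀.left := Over.mono_left_of_mono j₀
  choose U hsU r hr using hT₁
  have hex : ∀ s, ∃ g : Red.bc (U s).ι T₁ ⟶ Red.bc (U s).ι T₀,
      g ≫ (Over.pullback (U s).ι).map j₀ = (Over.pullback (U s).ι).map j₁ := fun s =>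
    exists_factor_bc hn hT j₀ hmax (U s) _ (r s) (hr s)
  choose g hg using hex
  let 𝒰 : T₁.left.OpenCover := Scheme.Cover.mkOfCovers S (fun s => pullback T₁.hom (U s).ι) (fun s => pullback.fst _ _)
    (fun x => by
      refine ⟨T₁.hom x, ?_⟩
      show x ∈ Set.range (pullback.fst T₁.hom (U (T₁.hom x)).ι)
      rw [Scheme.Pullback.range_fst, Scheme.Opens.range_ι]
      exact hsU _)
    (fun s => MorphismProperty.pullback_fst (P := @IsOpenImmersion) _ _ inferInstance)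
  have key : ∀ s, ((g s).left ≫ pullback.fst T₀.hom (U s).ι) ≫ j₀.left = 𝒰.f s ≫ j₁.left := fun s => by
    rw [Category.assoc, ← ActBC.pullback_map_left_fst, ← Category.assoc, ← Over.comp_left, hg,
      ActBC.pullback_map_left_fst]
    rfl
  let u : T₁.left ⟶ T₀.left := Scheme.Cover.glueMorphisms 𝒰 (fun s => (g s).left ≫ pullback.fst T₀.hom (U s).ι)
    fun x y => by
      apply (cancel_mono j₀.left).1
      refine (Category.assoc _ _ _).trans (((congrArg (pullback.fst (𝒰.f x) (𝒰.f y) ≫ ·) (key x)).trans ?_).trans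
        (((congrArg (pullback.snd (𝒰.f x) (𝒰.f y) ≫ ·) (key y)).symm).trans (Category.assoc _ _ _).symm))
      exact pullback.condition_assoc _
  have hu : u ≫ j₀.left = j₁.left := Scheme.Cover.hom_ext 𝒰 _ _ fun s => by
    rw [← Category.assoc, Scheme.Cover.ι_glueMorphisms, key]
  exact ⟨Over.homMk u (by rw [← Over.w j₀, ← Category.assoc, hu, Over.w j₁]), Over.OverMorphism.ext hu⟩

end Groth.Agent.SplitExt
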