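import Groth.Agent.SplitExt.Factor
import Groth.Agent.GenExt.Glue
import Groth.Agent.HomDesc.BaseChange
import Mathlib.RingTheory.TensorProduct.MonoidAlgebra
import Mathlib.Algebra.AffineMonoid.UniqueSums

/-!
# Homomorphisms from split tori defined over an open extend over a normal base
-/

set_option autoImplicit false
set_option backward.isDefEq.respectTransparency false
set_option backward.isDefEq.respectTransparency.types false
set_option linter.style.haveILetI false

universe u

open CategoryTheory CategoryTheory.Limits MonoidalCategory CartesianMonoidalCategory MonObj AlgebraicGeometry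
open TensorProduct

noncomputable section

namespace Groth.Agent.SplitExt

theorem geometricallyIntegral_diag (R : Type u) [CommRing R] (M : Type) [AddCommGroup M] [AddGroup.FG M]
    [IsAddTorsionFree M] : GeometricallyIntegral (Red.diag R M).hom := by
  refine ⟨fun L _ y Z fst' snd' H => ?_⟩
  obtain ⟨φ, rfl⟩ := Spec.map_surjective y
  letI : Algebra R L := φ.hom.toAlgebra
  have hI : IsIntegral (pullback (Spec.map (CommRingCat.ofHom (algebraMap R (MonoidAlgebra R (Multiplicative M)))))
      (Spec.map φ)) := by
    haveI : IsDomain (MonoidAlgebra R (Multiplicative M) ⊗[R] L) := by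
      haveI : NoZeroDivisors (MonoidAlgebra L (Multiplicative M)) := inferInstance
      haveI : IsDomain (MonoidAlgebra L (Multiplicative M)) := NoZeroDivisors.to_isDomain _
      exact ((Algebra.TensorProduct.comm R (MonoidAlgebra R (Multiplicative M)) L).toRingEquiv.trans
        (MonoidAlgebra.scalarTensorEquiv R L).toRingEquiv).toMulEquiv.isDomain
    exact .of_isIso (pullbackSpecIso R (MonoidAlgebra R (Multiplicative M)) L).inv
  haveI : IsIntegral (pullback (Red.diag R M).hom (Spec.map φ)) := hI
  exact .of_isIso H.isoPullback.inv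

theorem flat_diag (R : Type u) [CommRing R] (M : Type) [AddCommGroup M] : Flat (Red.diag R M).hom := by
  show Flat (Spec.map (CommRingCat.ofHom (algebraMap R (MonoidAlgebra R (Multiplicative M)))))
  rw [HasRingHomProperty.Spec_iff (P := @Flat), CommRingCat.hom_ofHom]
  exact RingHom.flat_algebraMap_iff.mpr inferInstance

theorem props_DS (S : Scheme.{u}) (M : Type) [AddCommGroup M] [AddGroup.FG M] [IsAddTorsionFree M] :
    Flat (Red.DS S M).hom ∧ GeometricallyIntegral (Red.DS S M).hom :=
  ⟨MorphismProperty.pullback_snd _ _ (flat_diag _ M),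
    MorphismProperty.pullback_snd _ _ (geometricallyIntegral_diag _ M)⟩

variable {S : Scheme.{u}}

/-- Conjugating a homomorphism by iterated base change. -/
theorem map_conj {S' S'' : Scheme.{u}} (f : S'' ⟶ S') (g : S' ⟶ S) {d : S'' ⟶ S} (h : f ≫ g = d) {X Y : Over S}
    (φ : X ⟶ Y) :
    (Over.pullback f).map ((Over.pullback g).map φ) =
      (ActBC.bcCompIso f g X h).hom ≫ (Over.pullback d).map φ ≫ (ActBC.bcCompIso f g Y h).inv := by
  rw [← Category.assoc, Iso.eq_comp_inv, ActBC.bcCompIso_hom_naturality]

/-- A homomorphism from a split torus over a non-empty open extends over a normal base. -/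
theorem exists_extend_split [IsIntegral S] [IsLocallyNoetherian S] (hn : Pi1.IsNormalScheme S)
    {T : Over S} [GrpObj T] (hT : SGA3x.IsMultTypeFT T) (U : S.Opens) [Nonempty U] (M : Type) [AddCommGroup M]
    [AddGroup.FG M] [IsAddTorsionFree M] (w : Red.bc U.ι (Red.DS S M) ⟶ Red.bc U.ι T) [IsMonHom w] :
    ∃ u : Red.DS S M ⟶ T, IsMonHom u ∧ (Over.pullback U.ι).map u = w := by
  haveI := (props_DS S M).1
  haveI := (props_DS S M).2
  haveI : IsAffineHom T.hom :=
    FixedSmooth.isAffineHom_of_isMultTypeLoc (WeilClosedLib.IsMultTypeLoc.of_isMultTypeFT hT)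
  haveI : IsIntegral U.toScheme := isIntegral_of_isOpenImmersion U.ι
  obtain ⟨g', hg'⟩ : ∃ g' : Spec (S.residueField (genericPoint S)) ⟶ U.toScheme, g' ≫ U.ι = GenExt.genS S :=
    ⟨IsOpenImmersion.lift U.ι (GenExt.genS S) (by
      rw [Scheme.range_fromSpecResidueField, Set.singleton_subset_iff, Scheme.Opens.range_ι]
      obtain ⟨y⟩ := ‹Nonempty U›
      exact (genericPoint_specializes y.1).mem_open U.2 y.2), IsOpenImmersion.lift_fac _ _ _⟩
  haveI := HomDesc.isMonHom_bcCompIso g' U.ι hg' (Red.DS S M)
  haveI := HomDesc.isMonHom_bcCompIso g' U.ι hg' T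
  haveI : IsMonHom (ActBC.bcCompIso g' U.ι (Red.DS S M) hg').inv :=
    ((HomDesc.bcGrpIso g' U.ι hg' (Red.DS S M)).inv.hom.isMonHom_hom :)
  haveI : IsMonHom ((Over.pullback g').map w) := inferInstance
  let uη : Red.bc (GenExt.genS S) (Red.DS S M) ⟶ Red.bc (GenExt.genS S) T :=
    (ActBC.bcCompIso g' U.ι (Red.DS S M) hg').inv ≫ (Over.pullback g').map w ≫ (ActBC.bcCompIso g' U.ι T hg').hom
  haveI : IsMonHom uη := inferInstance
  obtain ⟨u, hu, hmap⟩ := GenExt.exists_hom_extends hn hT uη
  refine ⟨u, hu, ?_⟩
  have hg : (Over.pullback g').map ((Over.pullback U.ι).map u) = (Over.pullback g').map w := by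
    rw [map_conj g' U.ι hg', hmap]
    simp [uη]
  haveI : Flat (Red.bc U.ι (Red.DS S M)).hom := MorphismProperty.pullback_snd _ _ inferInstance
  haveI : IsAffineHom (Red.bc U.ι T).hom := MorphismProperty.pullback_snd _ _ inferInstance
  refine GenExt.hom_ext_generic _ _ ?_
  obtain ⟨c, hc⟩ : ∃ c : Spec (U.toScheme.residueField (genericPoint U.toScheme)) ⟶ Spec (S.residueField (genericPoint S)),
      c ≫ g' = GenExt.genS U.toScheme := by
    obtain ⟨c, hc⟩ := GenExt.exists_point_factor (K := U.toScheme.residueField (genericPoint U.toScheme))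
      (GenExt.genS U.toScheme ≫ U.ι) (x := genericPoint S) (by
        rw [Scheme.Hom.comp_apply]
        refine (congrArg U.ι (Scheme.fromSpecResidueField_apply _ _)).trans ?_
        exact genericPoint_eq_of_isOpenImmersion U.ι)
    exact ⟨c, (cancel_mono U.ι).1 (by rw [Category.assoc, hg']; exact hc)⟩
  let X := Red.bc U.ι (Red.DS S M)
  let l : pullback X.hom (GenExt.genS U.toScheme) ⟶ pullback X.hom g' :=
    pullback.lift (pullback.fst _ _) (pullback.snd _ _ ≫ c) (by rw [Category.assoc, hc, pullback.condition])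
  have hl : l ≫ pullback.fst X.hom g' = pullback.fst X.hom (GenExt.genS U.toScheme) := pullback.lift_fst _ _ _
  have := congrArg (fun m => l ≫ Over.Hom.left m ≫ pullback.fst _ g') hg
  rw [ActBC.pullback_map_left_fst, ActBC.pullback_map_left_fst, reassoc_of% hl, reassoc_of% hl] at this
  exact this

end Groth.Agent.SplitExt
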